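import Mathlib
import Cfsg.Agent.Helper19.SchJ2.ConcK
import Cfsg.Agent.Helper22.IcoJ2
import Cfsg.Agent.Helper19.SchJ2.Tab

/-! The concrete side for the Schur multiplier of the Hall–Janko group: two generators of helper22's
permutation group of order 604800 on 315 points, the proof that they generate it, and the relators. -/

set_option autoImplicit false
set_option linter.all false
set_option maxRecDepth 100000
set_option maxHeartbeats 0

namespace Cfsg.Agent.Helper19.SchJ2

open Cfsg.Agent.Helper22.PermPack Cfsg.Agent.Helper22.IcoData Cfsg.Agent.Helper22.IcoGroup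
  Cfsg.Agent.Helper19.TCS Cfsg.Agent.Helper19.Schur

theorem gens3_good : ∀ y ∈ gens3, Good 315 9 y :=
  fun y hy => good_of_goodB (List.all_eq_true.mp gens3_goodK y hy)

theorem slp1_mem : ∀ e ∈ slp1, Good 315 9 e.1 ∧ P 315 9 e.1 ∈ Grp 315 9 gens4 :=
  slp_sound gens4 slp1 gens4 (fun t ht => ⟨gens4_good t ht, P_mem_Grp ht⟩) slp1_okK

/-- the generator of order 15 -/
noncomputable def xP : Pm 315 := P 315 9 j2X
/-- its inverse -/
noncomputable def xiP : Pm 315 := P 315 9 j2Xi
/-- the involution -/
noncomputable def yP : Pm 315 := P 315 9 j2Y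

theorem xP_mem : xP ∈ G := by
  rw [G_eq]
  exact (slp1_mem (j2X, [2, 1, 0]) (by simp [slp1])).2

theorem xiP_mem : xiP ∈ G := by
  rw [G_eq]
  exact (slp1_mem (j2Xi, [0, 1, 2]) (by simp [slp1])).2

theorem yP_mem : yP ∈ G := by
  rw [G_eq]
  exact P_mem_Grp (List.contains_iff_mem.mp j2Y_memK)

theorem hX : Rep (slot 9 j2X) xP := rep_P (gens3_good j2X (by simp [gens3]))
theorem hXi : Rep (slot 9 j2Xi) xiP := rep_P (gens3_good j2Xi (by simp [gens3]))
theorem hY : Rep (slot 9 j2Y) yP := rep_P (gens3_good j2Y (by simp [gens3]))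

theorem xP_mul_xiP : xP * xiP = 1 := by
  apply rep_unique (f := fun i => i) _ rep_one
  apply rep_congr (rep_mul hX hXi)
  intro i hi
  have := allN_spec inv_okK i hi
  rw [Bool.and_eq_true] at this
  exact (beq_iff.mp this.1).symm

theorem yP_mul_yP : yP * yP = 1 := by
  apply rep_unique (f := fun i => i) _ rep_one
  apply rep_congr (rep_mul hY hY)
  intro i hi
  have := allN_spec inv_okK i hi
  rw [Bool.and_eq_true] at this
  exact (beq_iff.mp this.2).symm

theorem xiP_eq : xiP = xP⁻¹ := eq_inv_of_mul_eq_one_right xP_mul_xiP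

theorem yP_inv : yP⁻¹ = yP := inv_eq_of_mul_eq_one_right yP_mul_yP

theorem Grp3_eq : Grp 315 9 gens3 = G := by
  have h1 : Grp 315 9 (gens3 ++ gens4) = Grp 315 9 gens3 :=
    Grp_eq_of_slp gens3_good slp2_okK (by
      intro y hy
      rcases List.mem_append.mp hy with h | h
      · exact Or.inl h
      · have := List.all_eq_true.mp gens4_subK' y h
        rw [Bool.or_eq_true, List.contains_iff_mem, List.any_eq_true] at this
        rcases this with h1 | ⟨e, he, h2⟩
        · exact Or.inl h1
        · exact Or.inr ⟨e, he, beq_iff_eq.mp h2⟩)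
      (fun t ht => List.mem_append_left _ ht)
  apply le_antisymm
  · rw [Grp, Subgroup.closure_le]
    rintro g ⟨y, hy, rfl⟩
    simp only [gens3, List.mem_cons, List.not_mem_nil, or_false] at hy
    rcases hy with rfl | rfl | rfl
    · exact xP_mem
    · exact xiP_mem
    · exact yP_mem
  · rw [G_eq, ← h1]
    exact Grp_mono (fun y hy => List.mem_append_right _ hy)

theorem closure_xy : Subgroup.closure ({xP, yP} : Set (Pm 315)) = G := by
  rw [← Grp3_eq]
  unfold Grp
  apply le_antisymm
  · apply Subgroup.closure_mono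
    intro g hg
    rcases hg with rfl | rfl
    · exact ⟨j2X, by simp [gens3], rfl⟩
    · exact ⟨j2Y, by simp [gens3], rfl⟩
  · rw [Subgroup.closure_le]
    rintro g ⟨y, hy, rfl⟩
    simp only [gens3, List.mem_cons, List.not_mem_nil, or_false] at hy
    rcases hy with rfl | rfl | rfl
    · exact Subgroup.subset_closure (by simp [xP])
    · show xiP ∈ _
      rw [xiP_eq]
      exact Subgroup.inv_mem _ (Subgroup.subset_closure (by simp))
    · exact Subgroup.subset_closure (by simp [yP])

theorem closure_subtype_eq_top {Γ : Type*} [Group Γ] (H : Subgroup Γ) (a b : Γ) (ha : a ∈ H) (hb : b ∈ H)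
    (h : Subgroup.closure {a, b} = H) :
    Subgroup.closure ({⟨a, ha⟩, ⟨b, hb⟩} : Set ↥H) = ⊤ := by
  apply Subgroup.map_injective H.subtype_injective
  rw [MonoidHom.map_closure, ← MonoidHom.range_eq_map, Subgroup.range_subtype]
  rw [Set.image_pair]
  exact h

/-- the generators in the group -/
noncomputable def xG : ↥G := ⟨xP, xP_mem⟩
noncomputable def yG : ↥G := ⟨yP, yP_mem⟩

theorem G_closure : Subgroup.closure ({xG, yG} : Set ↥G) = ⊤ :=
  closure_subtype_eq_top G xP yP xP_mem yP_mem closure_xy

/-! ### The relators -/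

/-- the table of a letter -/
def tabOf (l : ℕ) : ℕ :=
  match l with
  | 0 => j2X
  | 1 => j2Xi
  | _ => j2Y

/-- the function of a word -/
def wlook : List ℕ → ℕ → ℕ
  | [], i => i
  | a :: w, i => wlook w (slot 9 (tabOf a) i)

theorem rep_gc2 : ∀ l, l < 4 → Rep (slot 9 (tabOf l)) (gc2 xP yP l) := by
  intro l hl
  interval_cases l
  · exact hX
  · show Rep (slot 9 j2Xi) xP⁻¹
    rw [← xiP_eq]
    exact hXi
  · exact hY
  · show Rep (slot 9 j2Y) yP⁻¹
    rw [yP_inv]
    exact hY

theorem rep_wlook : ∀ w : List ℕ, (∀ l ∈ w, l < 4) → Rep (wlook w) (prodw (gc2 xP yP) w) := by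
  intro w
  induction w with
  | nil => intro _; exact rep_one
  | cons a w ih =>
    intro hw
    have h1 := ih (fun l hl => hw l (List.mem_cons_of_mem _ hl))
    have h2 := rep_gc2 a (hw a (List.mem_cons_self))
    exact rep_congr (rep_mul h1 h2) (fun _ _ => rfl)

theorem rels_okK : rels.all (fun w => w.all (fun l => Nat.blt l 4) &&
    allN 315 (fun i => Nat.beq (wlook w i) i)) = true := by
  decide +kernel

theorem hrelP : ∀ w ∈ rels, prodw (gc2 xP yP) w = 1 := by
  intro w hw
  have h := List.all_eq_true.mp rels_okK w hw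
  rw [Bool.and_eq_true] at h
  have h4 : ∀ l ∈ w, l < 4 := fun l hl => blt_iff.mp (List.all_eq_true.mp h.1 l hl)
  apply rep_unique (f := fun i => i) _ rep_one
  apply rep_congr (rep_wlook w h4)
  intro i hi
  exact (beq_iff.mp (allN_spec h.2 i hi)).symm

theorem hrelG : ∀ w ∈ rels, prodw (gc2 xG yG) w = 1 := by
  intro w hw
  apply Subtype.ext
  have h := map_prodw G.subtype xG yG w
  rw [Subgroup.coe_subtype] at h
  rw [h]
  exact hrelP w hw

end Cfsg.Agent.Helper19.SchJ2
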