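import Cfsg.Agent.Helper19.SchJ2.Tab

set_option autoImplicit false
set_option linter.all false
set_option maxRecDepth 1000000
set_option maxHeartbeats 0

namespace Cfsg.Agent.Helper19.SchJ2

theorem okR48 : OKR (48 * 1008) 1008 := by decide +kernel
theorem okR49 : OKR (49 * 1008) 1008 := by decide +kernel
theorem okR50 : OKR (50 * 1008) 1008 := by decide +kernel
theorem okR51 : OKR (51 * 1008) 1008 := by decide +kernel

end Cfsg.Agent.Helper19.SchJ2
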