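import Cfsg.Agent.Helper19.SchJ2.Tab

set_option autoImplicit false
set_option linter.all false
set_option maxRecDepth 1000000
set_option maxHeartbeats 0

namespace Cfsg.Agent.Helper19.SchJ2

theorem okR64 : OKR (64 * 1008) 1008 := by decide +kernel
theorem okR65 : OKR (65 * 1008) 1008 := by decide +kernel
theorem okR66 : OKR (66 * 1008) 1008 := by decide +kernel
theorem okR67 : OKR (67 * 1008) 1008 := by decide +kernel

end Cfsg.Agent.Helper19.SchJ2
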