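import Cfsg.Agent.Helper19.SchJ2.Tab

set_option autoImplicit false
set_option linter.all false
set_option maxRecDepth 1000000
set_option maxHeartbeats 0

namespace Cfsg.Agent.Helper19.SchJ2

theorem okT0 : OKT (0 * 20000) 20000 := by decide +kernel
theorem okT1 : OKT (1 * 20000) 20000 := by decide +kernel
theorem okT2 : OKT (2 * 20000) 20000 := by decide +kernel
theorem okT3 : OKT (3 * 20000) 20000 := by decide +kernel
theorem okT4 : OKT (4 * 20000) 20000 := by decide +kernel
theorem okF0 : OKF [2, 2] 2398 1393797239522478732262287810346252060606464 := by decide +kernel
theorem okF1 : OKF [2, 2] 2102 1393797239522478751605091700808281999032335 := by decide +kernel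
theorem okF2 : OKF [2, 2] 14495 1393797239481913932397760689883859346538496 := by decide +kernel
theorem okF3 : OKF [2, 2] 58536 1393797239238525036496855215696576245678080 := by decide +kernel
theorem okFK : OKF wk2 0 41813917172166282258983170658619384249417218 := by decide +kernel

end Cfsg.Agent.Helper19.SchJ2
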