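import Mathlib
import Cfsg.Agent.Helper19.TCR.Lab
import Cfsg.Agent.Helper19.TCR.Pair
import Cfsg.Agent.Helper19.SchJ2.Chk0
import Cfsg.Agent.Helper19.SchJ2.Chk1
import Cfsg.Agent.Helper19.SchJ2.Chk2
import Cfsg.Agent.Helper19.SchJ2.Chk3
import Cfsg.Agent.Helper19.SchJ2.Chk4
import Cfsg.Agent.Helper19.SchJ2.Chk5
import Cfsg.Agent.Helper19.SchJ2.Chk6
import Cfsg.Agent.Helper19.SchJ2.Chk7
import Cfsg.Agent.Helper19.SchJ2.Chk8
import Cfsg.Agent.Helper19.SchJ2.Chk9
import Cfsg.Agent.Helper19.SchJ2.Chk10
import Cfsg.Agent.Helper19.SchJ2.Chk11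
import Cfsg.Agent.Helper19.SchJ2.Chk12
import Cfsg.Agent.Helper19.SchJ2.Chk13
import Cfsg.Agent.Helper19.SchJ2.Chk14
import Cfsg.Agent.Helper19.SchJ2.Chk15
import Cfsg.Agent.Helper19.SchJ2.Chk16
import Cfsg.Agent.Helper19.SchJ2.Chk17
import Cfsg.Agent.Helper19.SchJ2.Chk18
import Cfsg.Agent.Helper19.SchJ2.Chk19
import Cfsg.Agent.Helper19.SchJ2.PChk0
import Cfsg.Agent.Helper19.SchJ2.PChk1
import Cfsg.Agent.Helper19.SchJ2.PChk2
import Cfsg.Agent.Helper19.SchJ2.PChk3
import Cfsg.Agent.Helper19.SchJ2.PChk4
import Cfsg.Agent.Helper19.SchJ2.PChk5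
import Cfsg.Agent.Helper19.SchJ2.PChk6
import Cfsg.Agent.Helper19.SchJ2.PChk7
import Cfsg.Agent.Helper19.SchJ2.PChk8
import Cfsg.Agent.Helper19.SchJ2.PChk9
import Cfsg.Agent.Helper19.SchJ2.PChk10
import Cfsg.Agent.Helper19.SchJ2.PChk11
import Cfsg.Agent.Helper19.SchJ2.PChk12
import Cfsg.Agent.Helper19.SchJ2.PChk13
import Cfsg.Agent.Helper19.SchJ2.PChk14
import Cfsg.Agent.Helper19.SchJ2.PChk15
import Cfsg.Agent.Helper19.SchJ2.PChk16
import Cfsg.Agent.Helper19.SchJ2.PChk17
import Cfsg.Agent.Helper19.SchJ2.PChk18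
import Cfsg.Agent.Helper19.SchJ2.PChk19
import Cfsg.Agent.Helper19.SchJ2.ChkT

set_option autoImplicit false
set_option linter.all false
set_option maxRecDepth 1000000
set_option maxHeartbeats 0

namespace Cfsg.Agent.Helper19.SchJ2

open Cfsg.Agent.Helper19.TCS Cfsg.Agent.Helper19.TCL

theorem okR_all : ∀ p, p < 80 → OKR (p * 1008) 1008 := by
  intro p hp
  interval_cases p
  · exact okR0
  · exact okR1
  · exact okR2
  · exact okR3
  · exact okR4
  · exact okR5
  · exact okR6
  · exact okR7
  · exact okR8
  · exact okR9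
  · exact okR10
  · exact okR11
  · exact okR12
  · exact okR13
  · exact okR14
  · exact okR15
  · exact okR16
  · exact okR17
  · exact okR18
  · exact okR19
  · exact okR20
  · exact okR21
  · exact okR22
  · exact okR23
  · exact okR24
  · exact okR25
  · exact okR26
  · exact okR27
  · exact okR28
  · exact okR29
  · exact okR30
  · exact okR31
  · exact okR32
  · exact okR33
  · exact okR34
  · exact okR35
  · exact okR36
  · exact okR37
  · exact okR38
  · exact okR39
  · exact okR40
  · exact okR41
  · exact okR42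
  · exact okR43
  · exact okR44
  · exact okR45
  · exact okR46
  · exact okR47
  · exact okR48
  · exact okR49
  · exact okR50
  · exact okR51
  · exact okR52
  · exact okR53
  · exact okR54
  · exact okR55
  · exact okR56
  · exact okR57
  · exact okR58
  · exact okR59
  · exact okR60
  · exact okR61
  · exact okR62
  · exact okR63
  · exact okR64
  · exact okR65
  · exact okR66
  · exact okR67
  · exact okR68
  · exact okR69
  · exact okR70
  · exact okR71
  · exact okR72
  · exact okR73
  · exact okR74
  · exact okR75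
  · exact okR76
  · exact okR77
  · exact okR78
  · exact okR79

theorem okP_all : ∀ p, p < 80 → OKP (p * 1008) 1008 := by
  intro p hp
  interval_cases p
  · exact okP0
  · exact okP1
  · exact okP2
  · exact okP3
  · exact okP4
  · exact okP5
  · exact okP6
  · exact okP7
  · exact okP8
  · exact okP9
  · exact okP10
  · exact okP11
  · exact okP12
  · exact okP13
  · exact okP14
  · exact okP15
  · exact okP16
  · exact okP17
  · exact okP18
  · exact okP19
  · exact okP20
  · exact okP21
  · exact okP22
  · exact okP23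
  · exact okP24
  · exact okP25
  · exact okP26
  · exact okP27
  · exact okP28
  · exact okP29
  · exact okP30
  · exact okP31
  · exact okP32
  · exact okP33
  · exact okP34
  · exact okP35
  · exact okP36
  · exact okP37
  · exact okP38
  · exact okP39
  · exact okP40
  · exact okP41
  · exact okP42
  · exact okP43
  · exact okP44
  · exact okP45
  · exact okP46
  · exact okP47
  · exact okP48
  · exact okP49
  · exact okP50
  · exact okP51
  · exact okP52
  · exact okP53
  · exact okP54
  · exact okP55
  · exact okP56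
  · exact okP57
  · exact okP58
  · exact okP59
  · exact okP60
  · exact okP61
  · exact okP62
  · exact okP63
  · exact okP64
  · exact okP65
  · exact okP66
  · exact okP67
  · exact okP68
  · exact okP69
  · exact okP70
  · exact okP71
  · exact okP72
  · exact okP73
  · exact okP74
  · exact okP75
  · exact okP76
  · exact okP77
  · exact okP78
  · exact okP79

theorem okT_all : ∀ p, p < 5 → OKT (p * 20000) 20000 := by
  intro p hp
  interval_cases p
  · exact okT0
  · exact okT1
  · exact okT2
  · exact okT3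
  · exact okT4

theorem okAll : ∀ i l, i < 80640 → l < 4 → OKE i l := by
  intro i l hi hl
  have hp : i / 1008 < 80 := by omega
  have h1 : i / 1008 * 1008 ≤ i := Nat.div_mul_le_self i 1008
  have h2 : i < i / 1008 * 1008 + 1008 := by omega
  exact okRowsL_spec (i / 1008 * 1008) 1008 (okR_all (i / 1008) hp) i h1 h2 hi l hl

theorem treeAll : ∀ j, 0 < j → j < 80640 → parF j < j := by
  intro j h0 hj
  have hp : j / 20000 < 5 := by omega
  have h1 : j / 20000 * 20000 ≤ j := Nat.div_mul_le_self j 20000
  have h2 : j < j / 20000 * 20000 + 20000 := by omega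
  exact okTree_spec (j / 20000 * 20000) 20000 (okT_all (j / 20000) hp) j h1 h2 h0 hj

theorem rotsF_ok : ∀ r, r < 33 → rotsF r = rotL.getD r ([], 0, 0) := by
  have h : (List.range 33).all (fun r => rotsF r == rotL.getD r ([], 0, 0)) = true := by decide +kernel
  intro r hr
  have := forall_lt_of_all h r hr
  exact beq_iff_eq.mp this

theorem rotL_ok : (List.range 33).all (fun r =>
    rotOKL 4 subs.length 7 2097152 16384 8192 rels (rotL.getD r ([], 0, 0)) (rotIdx.getD r (0, 0))) = true := by
  decide +kernel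

theorem subL_ok : (List.range subL.length).all (fun s =>
    subOKL 4 7 2097152 16384 8192 subs (subL.getD s ([], 0, [], 0)) (subIdx.getD s 0)) = true := by
  decide +kernel

theorem subsF_ok : ∀ s, (subsF s).2.1 < 4 → s < subL.length ∧ subsF s = subL.getD s ([], 0, [], 0) := by
  intro s hs
  unfold subsF at hs ⊢
  by_cases h : s < subL.length
  · refine ⟨h, ?_⟩
    rw [List.getD_eq_getElem _ _ h, List.getD_eq_getElem _ _ h]
  · rw [List.getD_eq_default _ _ (not_lt.mp h)] at hs
    simp at hs

/-- the labelled table is closed, for any group with generators `gc` whose relator values are central. -/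
theorem closedL {Γ : Type*} [Group Γ] {C : Type*} [CommGroup C] (gc : ℕ → Γ) (ι : C →* Γ) (gen : ℕ → C)
    (hinv : ∀ l, l < 4 → gc (invF l) = (gc l)⁻¹)
    (hrels : ∀ ρ, ρ < rels.length → prodw gc (rels.getD ρ []) = ι (gen (subs.length + ρ)) ∧
      ∀ g : Γ, Commute (prodw gc (rels.getD ρ [])) g)
    (hsubs : ∀ s, s < subs.length → prodw gc (subs.getD s []) = ι (gen s)) :
    SemL 80640 4 262144 7 2097152 16384 8192 696898619761239375802545850401941977309184 invF 33 rotsF subsF gc ι gen ∧
      ∀ i l, i < 80640 → l < 4 → FactL gc ι gen 80640 131072 2199023255552 7 2097152 16384 8192 ent parF pletF i l := by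
  have S : SemL 80640 4 262144 7 2097152 16384 8192 696898619761239375802545850401941977309184 invF 33 rotsF subsF gc ι gen :=
    semL_of_data rels subs rotL rotIdx subL subIdx
      (by intro l hl; interval_cases l <;> decide) hinv (by norm_num) (by norm_num) (by norm_num)
      (by decide +kernel) (by norm_num) (by norm_num) rotsF_ok rotL_ok hrels subsF_ok subL_ok hsubs
  exact ⟨S, closed_of_okL S treeAll okAll⟩


theorem face0 {Γ : Type*} [Group Γ] {C : Type*} [CommGroup C] (gc : ℕ → Γ) (ι : C →* Γ) (gen : ℕ → C)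
    (hinv : ∀ l, l < 4 → gc (invF l) = (gc l)⁻¹)
    (hrels : ∀ ρ, ρ < rels.length → prodw gc (rels.getD ρ []) = ι (gen (subs.length + ρ)) ∧
      ∀ g : Γ, Commute (prodw gc (rels.getD ρ [])) g)
    (hsubs : ∀ s, s < subs.length → prodw gc (subs.getD s []) = ι (gen s)) :
    ι (gen (subs.length + 1)) = ι (dsem gen 8192 2 0 [16384, 16384, 16385, 16385, 16383, 16384, 16384]) := by
  obtain ⟨S, hcl⟩ := closedL gc ι gen hinv hrels hsubs
  have hw : [2, 2] = (rels.getD 1 []).rotate 0 := by decide
  obtain ⟨h1, h2⟩ := hrels 1 (by decide)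
  have hcen : ∀ g : Γ, Commute (prodw gc [2, 2]) g := by
    rw [hw, prodw_rotate_central h2]; exact h2
  have h3 := face_spec S hcl (w := [2, 2]) (b := 2398) (expected := 1393797239522478732262287810346252060606464) (by norm_num) (by decide) (by norm_num)
    [16384, 16384, 16385, 16385, 16383, 16384, 16384] (by decide) (by decide) (by decide +kernel) hcen okF0
  rw [← h1, ← prodw_rotate_central h2 0, ← hw]
  exact h3


theorem face1 {Γ : Type*} [Group Γ] {C : Type*} [CommGroup C] (gc : ℕ → Γ) (ι : C →* Γ) (gen : ℕ → C)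
    (hinv : ∀ l, l < 4 → gc (invF l) = (gc l)⁻¹)
    (hrels : ∀ ρ, ρ < rels.length → prodw gc (rels.getD ρ []) = ι (gen (subs.length + ρ)) ∧
      ∀ g : Γ, Commute (prodw gc (rels.getD ρ [])) g)
    (hsubs : ∀ s, s < subs.length → prodw gc (subs.getD s []) = ι (gen s)) :
    ι (gen (subs.length + 1)) = ι (dsem gen 8192 2 0 [16399, 16383, 16385, 16384, 16384, 16384, 16384]) := by
  obtain ⟨S, hcl⟩ := closedL gc ι gen hinv hrels hsubs
  have hw : [2, 2] = (rels.getD 1 []).rotate 0 := by decide
  obtain ⟨h1, h2⟩ := hrels 1 (by decide)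
  have hcen : ∀ g : Γ, Commute (prodw gc [2, 2]) g := by
    rw [hw, prodw_rotate_central h2]; exact h2
  have h3 := face_spec S hcl (w := [2, 2]) (b := 2102) (expected := 1393797239522478751605091700808281999032335) (by norm_num) (by decide) (by norm_num)
    [16399, 16383, 16385, 16384, 16384, 16384, 16384] (by decide) (by decide) (by decide +kernel) hcen okF1
  rw [← h1, ← prodw_rotate_central h2 0, ← hw]
  exact h3


theorem face2 {Γ : Type*} [Group Γ] {C : Type*} [CommGroup C] (gc : ℕ → Γ) (ι : C →* Γ) (gen : ℕ → C)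
    (hinv : ∀ l, l < 4 → gc (invF l) = (gc l)⁻¹)
    (hrels : ∀ ρ, ρ < rels.length → prodw gc (rels.getD ρ []) = ι (gen (subs.length + ρ)) ∧
      ∀ g : Γ, Commute (prodw gc (rels.getD ρ [])) g)
    (hsubs : ∀ s, s < subs.length → prodw gc (subs.getD s []) = ι (gen s)) :
    ι (gen (subs.length + 1)) = ι (dsem gen 8192 2 0 [16384, 16381, 16394, 16381, 16384, 16383, 16384]) := by
  obtain ⟨S, hcl⟩ := closedL gc ι gen hinv hrels hsubs
  have hw : [2, 2] = (rels.getD 1 []).rotate 0 := by decide
  obtain ⟨h1, h2⟩ := hrels 1 (by decide)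
  have hcen : ∀ g : Γ, Commute (prodw gc [2, 2]) g := by
    rw [hw, prodw_rotate_central h2]; exact h2
  have h3 := face_spec S hcl (w := [2, 2]) (b := 14495) (expected := 1393797239481913932397760689883859346538496) (by norm_num) (by decide) (by norm_num)
    [16384, 16381, 16394, 16381, 16384, 16383, 16384] (by decide) (by decide) (by decide +kernel) hcen okF2
  rw [← h1, ← prodw_rotate_central h2 0, ← hw]
  exact h3


theorem face3 {Γ : Type*} [Group Γ] {C : Type*} [CommGroup C] (gc : ℕ → Γ) (ι : C →* Γ) (gen : ℕ → C)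
    (hinv : ∀ l, l < 4 → gc (invF l) = (gc l)⁻¹)
    (hrels : ∀ ρ, ρ < rels.length → prodw gc (rels.getD ρ []) = ι (gen (subs.length + ρ)) ∧
      ∀ g : Γ, Commute (prodw gc (rels.getD ρ [])) g)
    (hsubs : ∀ s, s < subs.length → prodw gc (subs.getD s []) = ι (gen s)) :
    ι (gen (subs.length + 1)) = ι (dsem gen 8192 2 0 [16384, 16379, 16388, 16392, 16385, 16377, 16384]) := by
  obtain ⟨S, hcl⟩ := closedL gc ι gen hinv hrels hsubs
  have hw : [2, 2] = (rels.getD 1 []).rotate 0 := by decide
  obtain ⟨h1, h2⟩ := hrels 1 (by decide)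
  have hcen : ∀ g : Γ, Commute (prodw gc [2, 2]) g := by
    rw [hw, prodw_rotate_central h2]; exact h2
  have h3 := face_spec S hcl (w := [2, 2]) (b := 58536) (expected := 1393797239238525036496855215696576245678080) (by norm_num) (by decide) (by norm_num)
    [16384, 16379, 16388, 16392, 16385, 16377, 16384] (by decide) (by decide) (by decide +kernel) hcen okF3
  rw [← h1, ← prodw_rotate_central h2 0, ← hw]
  exact h3


theorem pairAll : ∀ i, i < 80640 → pairChk 131072 262144 262144 8388608 2199023255552 ent wk i = true := by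
  intro i hi
  have hp : i / 1008 < 80 := by omega
  have h1 : i / 1008 * 1008 ≤ i := Nat.div_mul_le_self i 1008
  have h2 : i < i / 1008 * 1008 + 1008 := by omega
  exact pairRows_spec wk (i / 1008 * 1008) 1008 (okP_all (i / 1008) hp) i h1 h2 hi

theorem wk2_eq : wk2 = wk ++ wk := by decide

theorem wk_mem : rels.getD 5 [] = wk := by decide

theorem faceK {Γ : Type*} [Group Γ] {C : Type*} [CommGroup C] (gc : ℕ → Γ) (ι : C →* Γ) (gen : ℕ → C)
    (hinv : ∀ l, l < 4 → gc (invF l) = (gc l)⁻¹)
    (hrels : ∀ ρ, ρ < rels.length → prodw gc (rels.getD ρ []) = ι (gen (subs.length + ρ)) ∧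
      ∀ g : Γ, Commute (prodw gc (rels.getD ρ [])) g)
    (hsubs : ∀ s, s < subs.length → prodw gc (subs.getD s []) = ι (gen s)) :
    ι (gen (subs.length + 5)) * ι (gen (subs.length + 5)) = ι (dsem gen 8192 60 0 [491010, 490457, 494892, 490108, 491753, 491187, 491520]) := by
  obtain ⟨S, hcl⟩ := closedL gc ι gen hinv hrels hsubs
  obtain ⟨h1, h2⟩ := hrels 5 (by decide)
  rw [wk_mem] at h1 h2
  have hww : prodw gc wk2 = prodw gc wk * prodw gc wk := by
    rw [wk2_eq, prodw_append]
  have hcen : ∀ g : Γ, Commute (prodw gc wk2) g := by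
    intro g
    rw [hww]
    exact (h2 g).mul_left (h2 g)
  have h3 := face_spec S hcl (w := wk2) (b := 0) (expected := 41813917172166282258983170658619384249417218) (by norm_num) (by decide) (by decide)
    [491010, 490457, 494892, 490108, 491753, 491187, 491520] (by decide) (by decide) (by decide +kernel) hcen okFK
  rw [← h1, ← hww]
  exact h3

end Cfsg.Agent.Helper19.SchJ2
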