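import Mathlib
import Cfsg.Agent.Helper19.TCR.Model
import Cfsg.Agent.Helper19.SchJ2.MChk0
import Cfsg.Agent.Helper19.SchJ2.MChk1
import Cfsg.Agent.Helper19.SchJ2.MChk2
import Cfsg.Agent.Helper19.SchJ2.MChk3
import Cfsg.Agent.Helper19.SchJ2.MChk4
import Cfsg.Agent.Helper19.SchJ2.MChk5
import Cfsg.Agent.Helper19.SchJ2.MChk6
import Cfsg.Agent.Helper19.SchJ2.MChk7
import Cfsg.Agent.Helper19.SchJ2.MChk8
import Cfsg.Agent.Helper19.SchJ2.MChk9

set_option autoImplicit false
set_option linter.all false
set_option maxRecDepth 1000000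
set_option maxHeartbeats 0

namespace Cfsg.Agent.Helper19.SchJ2

open Cfsg.Agent.Helper19.TCS Cfsg.Agent.Helper19.TCM Cfsg.Agent.Helper19.Schur

theorem okM_all : ∀ p, p < 40 → OKM (p * 1008) 1008 := by
  intro p hp
  interval_cases p
  · exact okM0
  · exact okM1
  · exact okM2
  · exact okM3
  · exact okM4
  · exact okM5
  · exact okM6
  · exact okM7
  · exact okM8
  · exact okM9
  · exact okM10
  · exact okM11
  · exact okM12
  · exact okM13
  · exact okM14
  · exact okM15
  · exact okM16
  · exact okM17
  · exact okM18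
  · exact okM19
  · exact okM20
  · exact okM21
  · exact okM22
  · exact okM23
  · exact okM24
  · exact okM25
  · exact okM26
  · exact okM27
  · exact okM28
  · exact okM29
  · exact okM30
  · exact okM31
  · exact okM32
  · exact okM33
  · exact okM34
  · exact okM35
  · exact okM36
  · exact okM37
  · exact okM38
  · exact okM39

theorem okM_row : ∀ i, i < 40320 →
    (∀ l, l < 4 → okEdgeM 40320 65536 2 invMF entM i l = true) ∧ okRelsM 65536 2 entM relsPM i = true := by
  intro i hi
  have hp : i / 1008 < 40 := by omega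
  have h1 : i / 1008 * 1008 ≤ i := Nat.div_mul_le_self i 1008
  have h2 : i < i / 1008 * 1008 + 1008 := by omega
  exact okRowsM_spec relsPM (i / 1008 * 1008) 1008 (okM_all (i / 1008) hp) i h1 h2 hi

theorem modelOK : ModelOK 40320 65536 2 invMF entM where
  hN := by norm_num
  hmd := by norm_num
  hinv := by
    intro l hl
    interval_cases l <;> rfl
  edge := fun i l hi hl => (okM_row i hi).1 l hl

theorem relsPM_eq : relsPM = relsM.zip phisM := by decide

theorem relsM_ok : ∀ i, i < 40320 → okRelsM 65536 2 entM (relsM.zip phisM) i = true := by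
  intro i hi
  rw [← relsPM_eq]
  exact (okM_row i hi).2

end Cfsg.Agent.Helper19.SchJ2
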