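import Mathlib
import Cfsg.Agent.Helper19.SchJ2.Conc
import Cfsg.Agent.Helper19.SchJ2.Inst
import Cfsg.Agent.Helper19.SchJ2.MFacts
import Cfsg.Agent.Helper19.Schur.Table

/-! The Schur multiplier of the Hall–Janko group is cyclic of order two: the final statement. -/

set_option autoImplicit false
set_option linter.all false
set_option maxRecDepth 100000
set_option maxHeartbeats 0

namespace Cfsg.Agent.Helper19.SchJ2

open Cfsg Cfsg.Agent.Helper22.PermPack Cfsg.Agent.Helper22.IcoGroup Cfsg.Agent.Helper19.TCS Cfsg.Agent.Helper19.TCL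
  Cfsg.Agent.Helper19.TCM Cfsg.Agent.Helper19.Schur

/-! ### The model data -/

def c1m : Fin 7 → ℤ := ![0, -1, 4, -1, -1, 0, 0]
def c2m : Fin 7 → ℤ := ![0, 2, -1, 2, 1, 1, -1]

theorem relsM_eq : relsM = rels := by decide

theorem schur_G : Cfsg.HasCyclicSchurMultiplier ↥G 2 := by
  have hcard : Nat.card ↥G = 604800 := card_G
  haveI : Finite ↥G := Nat.finite_of_card_ne_zero (by rw [hcard]; norm_num)
  have hT1' : ∀ (Δ : Type) [Group Δ] (a b : Δ), Subgroup.closure {a, b} = (⊤ : Subgroup Δ) →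
      (∀ w ∈ rels, prodw (gc2 a b) w = 1) → Finite Δ ∧ Nat.card Δ ≤ Nat.card ↥G := by
    intro Δ _ a b h1 h2
    rw [hcard]
    exact hT1 Δ a b h1 h2
  have hM := relsM_ok
  rw [relsM_eq] at hM
  refine ⟨?_, ?_⟩
  · exact exists_stem_of_table xG yG G_closure rels hT1' hrelG modelOK (by norm_num) phisM
      (by decide) (by decide) hM 7 e1 e2 c1m c2m he1 he2
      (by constructor <;> rw [Efun_eq] <;> decide) (by constructor <;> rw [Efun_eq] <;> decide)
      (by rw [Fin.sum_univ_seven]; decide) (by rw [Fin.sum_univ_seven]; decide) [2] (by decide)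
  · exact exists_surjective_of_stem xG yG G_closure rels 7 (by decide) hrelG hT1' 5 lam hT2
      e1 e2 he1 he2 c1 c2 g0 2 hc1 hc2 hg0 hL1 hL2

/-- the Schur multiplier of the Hall–Janko group is cyclic of order two. -/
theorem schur_J2 : Cfsg.HasCyclicSchurMultiplier Cfsg.Spor.J2 2 :=
  hasSchurMultiplier_of_mulEquiv Cfsg.Agent.Helper22.Ico.J2iso.symm schur_G

end Cfsg.Agent.Helper19.SchJ2
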